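import Cfsg.Agent.H585.BD.OutCrit
import Cfsg.Agent.H234.OutFamCl
import Cfsg.Agent.H234.OutFamSp
import Cfsg.Agent.H234.OutFamE
import Cfsg.Agent.H234.OutFamTw
import Cfsg.Agent.H55.OutGen

/-!
# `OutAb p S` for the groups of Lie type

* `outAb_psl_two`, `outAb_psp` : all `p`;
* `outAb_psl`, `outAb_psu` : `p` (resp. `p²`) does not divide `gcd(n, q ∓ 1)`;
* `outAb_pOmegaOdd`, `outAb_pOmegaPlus`, `outAb_pOmegaMinus` : `p` odd;
* `outAb_G2`, `outAb_F4`, ..., and `E₆`, `²E₆`, `E₇` for `p` odd.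
-/

set_option autoImplicit false
set_option linter.style.haveILetI false

namespace Cfsg.Agent.H585.BD

open Cfsg Cfsg.Agent.H234.OutGood

universe u v

variable {p : ℕ} [hp : Fact p.Prime]

theorem finite_out {S : Type u} [Group S] [Finite S] : Finite (Out S) := by
  have hM : Finite (MulAut S) := Finite.of_injective (fun f : MulAut S => (f : S → S)) DFunLike.coe_injective
  infer_instance

omit hp in
/-- Transport. -/
theorem OutPrime.congr {S : Type u} {S' : Type v} [Group S] [Group S'] (e : S ≃* S') (h : OutPrime p S') :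
    OutPrime p S := by
  unfold OutPrime
  rw [H55.OutGen.card_out_congr e]
  exact h

section psl

variable {F : Type u} [Field F] [Fintype F]

theorem outAb_psl_two (h4 : 4 ≤ Fintype.card F) : OutAb p (Matrix.ProjectiveSpecialLinearGroup (Fin 2) F) := by
  obtain ⟨r, hchar⟩ := CharP.exists F
  obtain ⟨f, hr, hf⟩ := FiniteField.card F r
  have hrf : Fact r.Prime := ⟨hr⟩
  haveI : Finite (Out (Matrix.ProjectiveSpecialLinearGroup (Fin 2) F)) := finite_out
  obtain ⟨φ, -, h1, h2⟩ := S2602.result (F := F) f.pos hf (by rwa [← hf])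
  refine outAb_of_ker φ ?_
  rw [h2]
  intro h
  have h3 := Nat.le_of_dvd two_pos (h.trans (Nat.gcd_dvd_left _ _))
  have := hp.out.two_le
  nlinarith

theorem outAb_psl {n : ℕ} (hn : 3 ≤ n) (hg : ¬ p ∣ Nat.gcd n (Fintype.card F - 1)) :
    OutAb p (Matrix.ProjectiveSpecialLinearGroup (Fin n) F) := by
  obtain ⟨r, hchar⟩ := CharP.exists F
  obtain ⟨f, hr, hf⟩ := FiniteField.card F r
  have hrf : Fact r.Prime := ⟨hr⟩
  obtain ⟨φ, -, h1, h2⟩ := S2601.result (F := F) f.pos hf hn
  refine outAb_of_ker_comm (fun a b => mul_comm a b) φ ?_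
  rw [h2, ← hf]
  exact hg

theorem exists_pow_of_sq {q r f' : ℕ} (hr : r.Prime) (hq : Fintype.card F = q ^ 2) (hf : Fintype.card F = r ^ f') :
    ∃ f, 1 ≤ f ∧ q = r ^ f := by
  have h1 : q ∣ r ^ f' := by
    rw [← hf, hq]
    exact dvd_pow_self q two_ne_zero
  obtain ⟨f, hf1, rfl⟩ := (Nat.dvd_prime_pow hr).1 h1
  refine ⟨f, ?_, rfl⟩
  rcases Nat.eq_zero_or_pos f with h | h
  · exfalso
    subst h
    have := Fintype.one_lt_card (α := F)
    rw [hq] at this
    simp at this
  · exact h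

theorem outAb_psu {n q : ℕ} (hq : Fintype.card F = q ^ 2) (hn : 3 ≤ n) (h32 : ¬ (n = 3 ∧ q = 2))
    (hg : ¬ p ^ 2 ∣ Nat.gcd n (q + 1)) : OutAb p (PSU n F q) := by
  obtain ⟨r, hchar⟩ := CharP.exists F
  obtain ⟨f', hr, hf⟩ := FiniteField.card F r
  have hrf : Fact r.Prime := ⟨hr⟩
  obtain ⟨f, hf0, hqf⟩ := exists_pow_of_sq hr hq hf
  haveI : Finite (SU n F q) := inferInstance
  haveI : Finite (PSU n F q) := inferInstance
  haveI : Finite (Out (PSU n F q)) := finite_out
  obtain ⟨φ, -, h1, h2⟩ := S2603.result (K := F) (p := r) (f := f) hf0 hqf hq hn h32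
  exact outAb_of_ker φ (by rwa [h2])

end psl

section pomega

omit hp in
theorem outAb_zmod_two {S : Type u} [Group S] {f : ℕ} (hf : Nonempty (Out S ≃* Multiplicative (ZMod 2 × ZMod f))) :
    OutAb p S := by
  obtain ⟨e⟩ := hf
  exact outAb_of_comm fun x y => e.injective (by rw [map_mul, map_mul, mul_comm])

theorem not_cube_dvd (hp2 : p ≠ 2) {k : ℕ} (hk : k ∣ 24) : ¬ p ^ 3 ∣ k := fun h =>
  not_sq_dvd_of_dvd hp2 hk ((pow_dvd_pow p (by norm_num)).trans h)

variable {F : Type u} [Field F] [Fintype F]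

omit hp in
theorem outAb_pomegaOdd {m : ℕ} (hm : 3 ≤ m) (hodd : Odd (Fintype.card F)) :
    OutAb p (POmega F (quadFormOdd m F)) := by
  obtain ⟨r, hchar⟩ := CharP.exists F
  obtain ⟨f, hr, hf⟩ := FiniteField.card F r
  have hrf : Fact r.Prime := ⟨hr⟩
  have hr2 : r ≠ 2 := by
    rintro rfl
    rw [hf, Nat.odd_pow_iff f.pos.ne'] at hodd
    exact absurd hodd (by decide)
  exact outAb_zmod_two (S2604.result (F := F) f.pos hf hr2 hm)

theorem outAb_pomegaMinus (hp2 : p ≠ 2) {m : ℕ} (hm : 4 ≤ m) (a b : F)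
    (hab : ∀ z₁ z₂ : F, z₁ ^ 2 + a * z₁ * z₂ + b * z₂ ^ 2 = 0 → z₁ = 0 ∧ z₂ = 0) :
    OutAb p (POmega F (quadFormMinus (m - 1) F a b)) := by
  obtain ⟨r, hchar⟩ := CharP.exists F
  obtain ⟨f, hr, hf⟩ := FiniteField.card F r
  have hrf : Fact r.Prime := ⟨hr⟩
  by_cases hr2 : r = 2
  · subst hr2
    exact outAb_of_cyclic (S2605.result (F := F) f.pos hf hm a b hab).1
  · have h1 := S2606.result (F := F) f.pos hf hr2 hm a b hab
    split_ifs at h1
    · obtain ⟨e'⟩ := h1
      refine outAb_of_prod (fun a b => mul_comm a b) (not_cube_dvd hp2 ?_) e'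
      rw [DihedralGroup.nat_card]
      norm_num
    · exact outAb_zmod_two h1

theorem outAb_pomegaPlus (hp2 : p ≠ 2) {m : ℕ} (hm : 4 ≤ m) : OutAb p (POmega F (quadFormPlus m F)) := by
  obtain ⟨r, hchar⟩ := CharP.exists F
  obtain ⟨f, hr, hf⟩ := FiniteField.card F r
  have hrf : Fact r.Prime := ⟨hr⟩
  by_cases hr2 : r = 2
  · subst hr2
    have h1 := S2607.result (F := F) f.pos hf hm
    split_ifs at h1
    · obtain ⟨e'⟩ := h1
      refine outAb_of_prod (fun a b => mul_comm a b) (not_cube_dvd hp2 ?_) e'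
      rw [H234.OutFamCl.card_perm]
      decide
    · exact outAb_zmod_two h1
  · have h1 := S2608.result (F := F) f.pos hf hr2 hm
    split_ifs at h1
    · obtain ⟨e'⟩ := h1
      refine outAb_of_prod (fun a b => mul_comm a b) (not_cube_dvd hp2 ?_) e'
      rw [H234.OutFamCl.card_perm]
      decide
    · obtain ⟨e⟩ := h1
      exact outAb_of_comm fun x y => e.injective (by rw [map_mul, map_mul, mul_comm])
    · obtain ⟨e'⟩ := h1
      refine outAb_of_prod (fun a b => mul_comm a b) (not_cube_dvd hp2 ?_) e'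
      rw [DihedralGroup.nat_card]
      norm_num

end pomega

section psp

open Cfsg.Agent.H234.OutFamSp

variable {F : Type u} [Field F] [Fintype F]

theorem outAb_psp {m : ℕ} (hm : 2 ≤ m) (hm2 : m = 2 → 3 ≤ Fintype.card F) [hsim : IsSimpleGroup (PSp m F)]
    (hnc : ¬ IsMulCommutative (PSp m F)) : OutAb p (PSp m F) := by
  obtain ⟨r, hchar⟩ := CharP.exists F
  obtain ⟨f, hr, hf⟩ := FiniteField.card F r
  have hrf : Fact r.Prime := ⟨hr⟩
  haveI : Finite (Matrix.symplecticGroup (Fin m) F) := Subtype.finite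
  haveI hfin : Finite (PSp m F) := inferInstance
  by_cases hcase : m = 2 ∧ r = 2
  · obtain ⟨rfl, rfl⟩ := hcase
    exact outAb_of_cyclic (S2600.result (F := F) f.pos hf).1
  · have h3 : 3 ≤ m ∨ (2 : F) ≠ 0 := by
      by_cases h3 : 3 ≤ m
      · exact Or.inl h3
      · right
        intro h2
        apply hcase
        refine ⟨by omega, ?_⟩
        have : CharP F 2 := CharTwo.of_one_ne_zero_of_two_eq_zero one_ne_zero h2
        exact CharP.eq F hchar this
    have hC : IsCyclic (F ≃+* F) := LieRecognition.FieldSemilinear.isCyclic_ringAut F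
    have hCf : Finite (F ≃+* F) := Finite.of_injective (fun f : F ≃+* F => (f : F → F)) DFunLike.coe_injective
    have hMf : Finite (MulAut (PSp m F)) :=
      Finite.of_injective (fun f : MulAut (PSp m F) => (f : PSp m F → PSp m F)) DFunLike.coe_injective
    have hcard := S0814.result (F := F) r f f.pos hf m hm (fun h => by rw [← hf]; exact hm2 h)
    rw [if_neg hcase, one_mul] at hcard
    have ho := H254.card_out hnc
    rw [hcard] at ho
    have hk := Nat.eq_of_mul_eq_mul_right Nat.card_pos ho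
    have hF : Nat.card (F ≃+* F) = f := Lib.FieldAutCard.card_ringAut f.pos hf
    rw [← hF] at hk
    refine outAb_of_rel (Rel m F) (exists_of hm h3) (fun β c β' c' h h' => h.mul h')
      (fun g c h => h.eq_one (by omega)) exists_rel hk ?_
    rintro h
    have h5 := Nat.le_of_dvd two_pos (h.trans (Nat.gcd_dvd_left _ _))
    have := hp.out.two_le
    nlinarith

end psp

/-! ### Exceptional groups -/

section exc

open Cfsg.Agent.H234.OutFamE
open Cfsg.Lie Cfsg.Agent.ChevalleyStructure Cfsg.Agent.ChevalleyStructure.Elts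
  Cfsg.Agent.ChevalleyStructure.NConj Cfsg.Agent.ChevalleyStructure.BNChev Cfsg.Agent.S1042
  Cfsg.Agent.Schreier.ChevLocal
  Cfsg.Agent.H70.AutFix Cfsg.Agent.H70.ChevTab Cfsg.Agent.H70.ChevFix
  Cfsg.Agent.H70.ChevField Cfsg.Agent.H70.OutCount Cfsg.Agent.H523.Chev
  Cfsg.Agent.H70.OutE Cfsg.Agent.H79.DiagSymm

theorem outAb_chev {D : ChevalleyDatum} {hD : InList D} {F : Type u} [Field F] [Finite F]
    (hr : ∀ π ∈ realised hD F, ∃ γ : MulAut ↥(D.group F), FVal hD γ π 1) {k : ℕ}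
    (hk : Nat.card (Out ↥(D.group F)) = k * Nat.card (F ≃+* F)) (h : ¬ p ^ 2 ∣ k) : OutAb p ↥(D.group F) := by
  have hC : IsCyclic (F ≃+* F) := LieRecognition.FieldSemilinear.isCyclic_ringAut F
  have hCf : Finite (F ≃+* F) := Finite.of_injective (fun f : F ≃+* F => (f : F → F)) DFunLike.coe_injective
  have hfin : Finite (GL D.Idx F) := inferInstance
  have hfinG : Finite ↥(D.group F) := inferInstance
  have hMf : Finite (MulAut ↥(D.group F)) :=
    Finite.of_injective (fun f : MulAut ↥(D.group F) => (f : ↥(D.group F) → ↥(D.group F))) DFunLike.coe_injective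
  refine outAb_of_rel (fun φ τ => ∃ π, FVal hD φ π τ) (exists_fval hr) ?_ ?_ ?_ hk h
  · rintro β c β' c' ⟨π, h⟩ ⟨π', h'⟩
    exact ⟨_, h.mul h'⟩
  · rintro g c ⟨π, h⟩
    exact h.eq_one
  · intro τ
    obtain ⟨φ, h⟩ := exists_val hD 1 τ
    exact ⟨φ, 1, fval_of_val h⟩

variable {F : Type u} [Field F]

theorem outAb_E7 [Fintype F] (hp2 : p ≠ 2) : OutAb p ↥(chevE7.group F) := by
  obtain ⟨r, hchar⟩ := CharP.exists F
  obtain ⟨f, hr, hf⟩ := FiniteField.card F r
  have hrf : Fact r.Prime := ⟨hr⟩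
  have hk := card_out_E7 hf
  have hF : Nat.card (F ≃+* F) = f := Lib.FieldAutCard.card_ringAut f.pos hf
  rw [← hF] at hk
  refine outAb_chev (hD := inList_E7) ?_ hk ?_
  · rintro π ⟨φ, hφ⟩
    have h1 := eq_one_E7 (H70.DiagSym.isDiagramSymmetry inList_E7 hφ)
    subst h1
    obtain ⟨φ, h⟩ := exists_val inList_E7 1 (1 : F ≃+* F)
    exact ⟨φ, fval_of_val h⟩
  · exact not_sq_dvd_of_dvd hp2 ((Nat.gcd_dvd_left _ _).trans (by norm_num))

theorem outAb_E6 [Fintype F] (hp2 : p ≠ 2) : OutAb p ↥(chevE6.group F) := by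
  obtain ⟨r, hchar⟩ := CharP.exists F
  obtain ⟨f, hr, hf⟩ := FiniteField.card F r
  have hrf : Fact r.Prime := ⟨hr⟩
  have hk := card_out_E6 hf
  have hF : Nat.card (F ≃+* F) = f := Lib.FieldAutCard.card_ringAut f.pos hf
  rw [← hF] at hk
  refine outAb_chev (hD := inList_E6) ?_ hk ?_
  · rintro π ⟨φ, hφ⟩
    have h1 := H70.DiagSym.isDiagramSymmetry inList_E6 hφ
    have h2 := imgs_E6 h1
    simp only [List.mem_cons, List.not_mem_nil, or_false] at h2
    rcases h2 with h2 | h2
    · have h3 : π = 1 := eq_of_imgs (h2.trans (by rw [imgs_one]; rfl))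
      subst h3
      obtain ⟨φ, h⟩ := exists_val inList_E6 1 (1 : F ≃+* F)
      exact ⟨φ, fval_of_val h⟩
    · have h3 : π = H70.OutE.flip := eq_of_imgs (h2.trans imgs_flip.symm)
      subst h3
      obtain ⟨α, hα⟩ := S1081.result (F := F) (chevE6, [5, 1, 4, 3, 2, 0]) (by simp)
      have ha : ∀ (i : Fin chevE6.rank) (t : F),
          α (xe inList_E6 (chevE6.simple i) t) = xe inList_E6 (chevE6.simple (H70.OutE.flip i)) t := by
        intro i t
        apply Subtype.ext
        apply Units.ext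
        rw [flip_val i]
        exact (hα (xe inList_E6 (chevE6.simple i) t) i t i.2).1 rfl
      have hb : ∀ (i : Fin chevE6.rank) (t : F),
          α (xe inList_E6 (chevE6.neg (chevE6.simple i)) t) = xe inList_E6 (chevE6.neg (chevE6.simple (H70.OutE.flip i))) t := by
        intro i t
        apply Subtype.ext
        apply Units.ext
        rw [flip_val i]
        exact (hα (xe inList_E6 (chevE6.neg (chevE6.simple i)) t) i t i.2).2 rfl
      refine ⟨α, ⟨fun i => smul_XX inList_E6 fun t => ha i t, fun i => smul_XX inList_E6 fun t => hb i t⟩, 1,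
        fun i t => ?_⟩
      rw [Pi.one_apply, Units.val_one, one_mul]
      exact ha i t
  · exact not_sq_dvd_of_dvd hp2 ((Nat.mul_dvd_mul_left 2 (Nat.gcd_dvd_left 3 _)).trans (show 2 * 3 ∣ 24 by norm_num))

omit hp in
theorem outAb_G2 [Fintype F] (hF : 3 ≤ Fintype.card F) : OutAb p ↥(chevG2.group F) :=
  outAb_of_cyc (H523.Chev.cycOut_G2 hF)

omit hp in
theorem outAb_F4 [Fintype F] : OutAb p ↥(chevF4.group F) := outAb_of_cyc H523.Chev.cycOut_F4

omit hp in
theorem outAb_E8 [Fintype F] : OutAb p ↥(chevE8.group F) := outAb_of_cyc H523.Chev.cycOut_E8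

omit hp in
theorem outAb_suzuki {K : Type v} [Group K] (h : Lie.IsoSuzuki K) : OutAb p K := outAb_of_cyc (H523.cycOut_suzuki h)

omit hp in
theorem outAb_ree {K : Type v} [Group K] (h : Lie.IsoRee K) : OutAb p K := outAb_of_cyc (H523.cycOut_ree h)

omit hp in
theorem outAb_twistedF4 {K : Type v} [Group K] (h : Lie.Iso2F4 K) : OutAb p K := outAb_of_cyc (H523.cycOut_twF4 h)

omit hp in
theorem outAb_twistedD4 {K : Type v} [Group K] (h : Lie.Iso3D4 K) : OutAb p K := by
  obtain ⟨F, _, _, q, hq, hF, ⟨e⟩⟩ := h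
  obtain ⟨r, hchar⟩ := CharP.exists F
  obtain ⟨f, hr, hf⟩ := FiniteField.card F r
  have hrf : Fact r.Prime := ⟨hr⟩
  exact OutAb.congr e (outAb_of_cyc (H523.TwD4.cycOut hq hF r))

end exc

end Cfsg.Agent.H585.BD
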