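import Cfsg.Agent.H585.BD.PslTwo
import Cfsg.Agent.H487.SchurMult
import Cfsg.Agent.S2116

/-!
# `A₅`, `A₆`, `A₇` are tame (S4932)
-/

set_option autoImplicit false
set_option linter.style.haveILetI false

namespace Cfsg.Agent.H585.BD

open Cfsg Cfsg.Agent.H246.Dl Cfsg.Agent.H589.BD

universe u v

variable {p : ℕ} [hp : Fact p.Prime]

theorem card_alt_five : Nat.card (alternatingGroup (Fin 5)) = 60 := by
  rw [nat_card_alternatingGroup, Nat.card_fin]
  decide

theorem card_alt_six : Nat.card (alternatingGroup (Fin 6)) = 360 := by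
  rw [nat_card_alternatingGroup, Nat.card_fin]
  decide

theorem card_alt_seven : Nat.card (alternatingGroup (Fin 7)) = 2520 := by
  rw [nat_card_alternatingGroup, Nat.card_fin]
  decide

/-- `OutAb` for the alternating groups. -/
theorem outAb_alt {S : Type u} [Group S] [Finite S] [IsSimpleGroup S] (hna : ¬ IsMulCommutative S) {n : ℕ}
    (hn : 5 ≤ n) (e : S ≃* alternatingGroup (Fin n)) : OutAb p S := by
  haveI := H934.OutAll.simple_of e
  have hna' := H934.OutAll.not_comm_of hna e
  rcases eq_or_ne n 6 with rfl | h6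
  · haveI : Fact (Nat.Prime 3) := ⟨by norm_num⟩
    haveI : Fintype (GaloisField 3 2) := Fintype.ofFinite _
    have hF : Fintype.card (GaloisField 3 2) = 9 := by
      rw [← Nat.card_eq_fintype_card, GaloisField.card 3 2 (by norm_num)]
      norm_num
    obtain ⟨e'⟩ := Cfsg.Agent.S0254.result hF
    exact OutAb.congr (e.trans e'.symm) (outAb_psl_two (by rw [hF]; norm_num))
  · haveI : Finite (Out (alternatingGroup (Fin n))) := finite_out
    refine OutAb.congr e (outAb_of_card ?_)
    rw [H934.OutAll.card_out_alt hn h6 hna']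
    intro h
    have h1 := Nat.le_of_dvd two_pos h
    have h2 := Nat.pow_le_pow_left hp.out.two_le 3
    omega

/-- `OutPrime` for the alternating groups. -/
theorem outPrime_alt {S : Type u} [Group S] [Finite S] [IsSimpleGroup S] (hna : ¬ IsMulCommutative S) {n : ℕ}
    (hn : 5 ≤ n) (h6 : n ≠ 6) (hp2 : p ≠ 2) (e : S ≃* alternatingGroup (Fin n)) : OutPrime p S := by
  haveI := H934.OutAll.simple_of e
  have hna' := H934.OutAll.not_comm_of hna e
  refine OutPrime.congr e ?_
  unfold OutPrime
  rw [H934.OutAll.card_out_alt hn h6 hna']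
  exact fun h => hp2 ((Nat.prime_dvd_prime_iff_eq hp.out Nat.prime_two).1 h)

theorem not_cube_dvd_of {n : ℕ} (h0 : 0 < n) (h : ∀ p < 14, 2 ≤ p → ¬ p ^ 3 ∣ n) (hn : n < 14 ^ 3) : ¬ p ^ 3 ∣ n := by
  intro h1
  have h2 := Nat.le_of_dvd h0 h1
  have h3 : p < 14 := by
    by_contra h4
    have := Nat.pow_le_pow_left (not_lt.1 h4) 3
    omega
  exact h p h3 hp.out.two_le h1

theorem tame_alt_five {S : Type u} [Group S] [Finite S] [IsSimpleGroup S] (hna : ¬ IsMulCommutative S)
    (e : S ≃* alternatingGroup (Fin 5)) : Tame p S := by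
  refine tame_one (center_simple hna) (H759.Dl.dlLe_one_of_card hp.out ?_) (outAb_alt hna le_rfl e)
  rw [Nat.card_congr e.toEquiv, card_alt_five]
  exact not_cube_dvd_of (by norm_num) (by decide) (by norm_num)

theorem tame_alt_six_seven {S : Type u} [Group S] [Finite S] [IsSimpleGroup S] (hna : ¬ IsMulCommutative S)
    {n : ℕ} (hn : n = 6 ∨ n = 7) (e : S ≃* alternatingGroup (Fin n)) : Tame p S := by
  have hO : OutAb p S := outAb_alt hna (by omega) e
  have hc : Nat.card S = 360 ∨ Nat.card S = 2520 := by
    rcases hn with rfl | rfl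
    · left; rw [Nat.card_congr e.toEquiv, card_alt_six]
    · right; rw [Nat.card_congr e.toEquiv, card_alt_seven]
  by_cases hp2 : p = 2
  · subst hp2
    have hM : HasCyclicSchurMultiplier S 6 :=
      (H487.HasSchurMultiplier.congr_left (S2116.result n hn) e.symm)
    haveI : NeZero 6 := ⟨by norm_num⟩
    haveI : Finite (Multiplicative (ZMod 6)) := inferInstanceAs (Finite (ZMod 6))
    have h1 : Nat.card (Multiplicative (ZMod 6)) = 6 := Nat.card_zmod 6
    refine tame_two (center_simple hna) (covDl_two_of_mult hM ?_) hO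
    rw [h1]
    rcases hc with hc | hc <;> rw [hc] <;> norm_num
  · refine tame_one (center_simple hna) (H759.Dl.dlLe_one_of_card hp.out ?_) hO
    rcases hc with hc | hc
    · rw [hc]
      intro h
      have h5 : ∀ p < 14, 3 ≤ p → ¬ p ^ 3 ∣ 360 := by decide
      have h2 := Nat.le_of_dvd (by norm_num) h
      have h3 : p < 14 := by
        by_contra h4
        have := Nat.pow_le_pow_left (not_lt.1 h4) 3
        omega
      have := hp.out.two_le
      exact h5 p h3 (by omega) h
    · rw [hc]
      intro h
      have h5 : ∀ p < 14, 3 ≤ p → ¬ p ^ 3 ∣ 2520 := by decide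
      have h2 := Nat.le_of_dvd (by norm_num) h
      have h3 : p < 14 := by
        by_contra h4
        have := Nat.pow_le_pow_left (not_lt.1 h4) 3
        omega
      have := hp.out.two_le
      exact h5 p h3 (by omega) h

end Cfsg.Agent.H585.BD
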