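import Cfsg.Agent.H585.BD.Tame
import Cfsg.Agent.H680.Dl.Hall

/-!
# Tame simple groups of small order (S4932)

* `covDl_three`, `covDl_two` : order bounds for the covers;
* `covDl_succ`, `tame_one` (T1), `tame_noCover` (T2), `tame_noCover_three` (T3), `tame_prime_two` (T8);
* `tame_of_mult` : the same from the Schur multiplier.
-/

set_option autoImplicit false
set_option linter.style.haveILetI false

namespace Cfsg.Agent.H585.BD

open Cfsg Cfsg.Agent.H246.Dl Cfsg.Agent.H589.BD Cfsg.Agent.H680.Dl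
open scoped commutatorElement

universe u v

variable {p : ℕ} {S : Type u} [Group S]

theorem dlLe_three' [hp : Fact p.Prime] {A : Type u} [Group A] [Finite A] (h : ¬ p ^ 12 ∣ Nat.card A) : DlLe p 3 A :=
  (dlLe_of_card' (a := 11) h).1 le_rfl

theorem dlLe_two' [hp : Fact p.Prime] {A : Type u} [Group A] [Finite A] (h : ¬ p ^ 6 ∣ Nat.card A) : DlLe p 2 A :=
  dlLe_two (a := 5) le_rfl h

theorem covDl_three [hp : Fact p.Prime]
    (h : ∀ (Y : Type u) [Group Y] [Finite Y] (f : Y →* S), PExt p S f → ¬ p ^ 12 ∣ Nat.card Y) :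
    CovDl p S 3 := fun Y _ _ f hf => dlLe_three' (h Y f hf)

theorem covDl_two [hp : Fact p.Prime]
    (h : ∀ (Y : Type u) [Group Y] [Finite Y] (f : Y →* S), PExt p S f → ¬ p ^ 6 ∣ Nat.card Y) :
    CovDl p S 2 := fun Y _ _ f hf => dlLe_two' (h Y f hf)

/-- The order of a `p`-cover. -/
theorem card_pext {A : Type v} [CommGroup A] [Finite A] (h : HasSchurMultiplier S A)
    {Y : Type u} [Group Y] [Finite Y] {f : Y →* S} (hf : PExt p S f) {m : ℕ}
    (hm : ¬ m ∣ Nat.card S * Nat.card A) : ¬ m ∣ Nat.card Y :=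
  fun h1 => hm (h1.trans (card_dvd_of_mult h hf))

theorem covDl_three_of_mult [hp : Fact p.Prime] {A : Type v} [CommGroup A] [Finite A] (h : HasSchurMultiplier S A)
    (hm : ¬ p ^ 12 ∣ Nat.card S * Nat.card A) : CovDl p S 3 :=
  covDl_three fun _ _ _ _ hf => card_pext h hf hm

theorem covDl_two_of_mult [hp : Fact p.Prime] {A : Type v} [CommGroup A] [Finite A] (h : HasSchurMultiplier S A)
    (hm : ¬ p ^ 6 ∣ Nat.card S * Nat.card A) : CovDl p S 2 :=
  covDl_two fun _ _ _ _ hf => card_pext h hf hm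

/-- The centre of a nonabelian simple group. -/
theorem center_simple [IsSimpleGroup S] (hna : ¬ IsMulCommutative S) : Subgroup.center S = ⊥ := by
  rcases (inferInstance : (Subgroup.center S).Normal).eq_bot_or_eq_top with h | h
  · exact h
  · exact absurd ⟨⟨fun a b => by
      have ha : b ∈ Subgroup.center S := by rw [h]; trivial
      exact Subgroup.mem_center_iff.1 ha a⟩⟩ hna

/-- Central extensions raise the derived length by at most one. -/
theorem covDl_succ [Finite S] [Fact p.Prime] {k : ℕ} (h : DlLe p k S) : CovDl p S (k + 1) := by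
  intro Y _ _ f hf P
  rw [derivedSeries_eq_bot_iff]
  have h1 : dS ((P : Subgroup Y).map f) k = ⊥ := dS_of_dlLe h (P.isPGroup'.map f)
  rw [← dS_map, Subgroup.map_eq_bot_iff] at h1
  rw [dS_succ, eq_bot_iff, Subgroup.commutator_le]
  intro a ha b hb
  rw [Subgroup.mem_bot, commutatorElement_eq_one_iff_mul_comm]
  exact (Subgroup.mem_center_iff.1 (hf.cent b (MonoidHom.mem_ker.1 (h1 hb))) a)

/-- (T8) `OutPrime p S` and derived length at most two. -/
theorem tame_prime_two [Finite S] [hp : Fact p.Prime] (hZ : Subgroup.center S = ⊥) (h : DlLe p 2 S)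
    (ho : OutPrime p S) : Tame p S :=
  tame_three hZ (covDl_succ h) ho

/-- (T1) abelian Sylow subgroups. -/
theorem tame_one [Finite S] [hp : Fact p.Prime] (hZ : Subgroup.center S = ⊥) (h : DlLe p 1 S)
    (ho : OutAb p S) : Tame p S :=
  tame_two hZ (covDl_succ h) ho

/-- (T2). -/
theorem tame_noCover [Finite S] [hp : Fact p.Prime] (hZ : Subgroup.center S = ⊥) (hn : NoCover p S)
    (h : DlLe p 2 S) (ho : OutAb p S) : Tame p S :=
  tame_two hZ (covDl_of_noCover hn h) ho

/-- (T3). -/
theorem tame_noCover_three [Finite S] [hp : Fact p.Prime] (hZ : Subgroup.center S = ⊥) (hn : NoCover p S)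
    (h : DlLe p 3 S) (ho : OutPrime p S) : Tame p S :=
  tame_three hZ (covDl_of_noCover hn h) ho

/-- (T4). -/
theorem tame_of_mult [hp : Fact p.Prime] (hZ : Subgroup.center S = ⊥) {A : Type v} [CommGroup A] [Finite A] (h : HasSchurMultiplier S A)
    (hm : ¬ p ^ 12 ∣ Nat.card S * Nat.card A) (ho : OutPrime p S) : Tame p S :=
  tame_three hZ (covDl_three_of_mult h hm) ho

/-- (T4) for cyclic multipliers. -/
theorem tame_of_cyclic [hp : Fact p.Prime] (hZ : Subgroup.center S = ⊥) {n : ℕ} (hn : n ≠ 0) (h : HasCyclicSchurMultiplier S n)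
    (hm : ¬ p ^ 12 ∣ Nat.card S * n) (ho : OutPrime p S) : Tame p S := by
  haveI : NeZero n := ⟨hn⟩
  haveI : Finite (Multiplicative (ZMod n)) := inferInstanceAs (Finite (ZMod n))
  refine tame_of_mult hZ h ?_ ho
  have h1 : Nat.card (Multiplicative (ZMod n)) = n := Nat.card_zmod n
  rwa [h1]

theorem noCover_of_cyclic [hp : Fact p.Prime] {n : ℕ} (h : HasCyclicSchurMultiplier S n) (hn : ¬ p ∣ n) :
    NoCover p S := by
  haveI : NeZero n := ⟨by rintro rfl; exact hn (dvd_zero p)⟩
  haveI : Finite (Multiplicative (ZMod n)) := inferInstanceAs (Finite (ZMod n))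
  refine noCover_of_mult h ?_
  have h1 : Nat.card (Multiplicative (ZMod n)) = n := Nat.card_zmod n
  rwa [h1]

/-- (T6) with an order bound: `N` has index at most `#Out S` in `A`. -/
theorem card_over [Finite S] {A : Type u} [Group A] [Finite A] {N : Subgroup A} (h : Over S N) :
    Nat.card A ∣ Nat.card S * Nat.card (Out S) := by
  obtain ⟨ψ, hψ, h2⟩ := exists_psi h
  haveI := h.normal
  obtain ⟨e⟩ := h.iso
  have h3 : Nat.card A = Nat.card (A ⧸ N) * Nat.card N := Subgroup.card_eq_card_quotient_mul_card_subgroup N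
  have h4 : Nat.card (A ⧸ N) ∣ Nat.card (Out S) := by
    let g : A →* Out S := (QuotientGroup.mk' (Inn S)).comp ψ
    have h5 : g.ker = N := by
      ext a
      rw [MonoidHom.mem_ker, ← h2 a]
      exact QuotientGroup.eq_one_iff (ψ a)
    have h6 := Subgroup.card_subgroup_dvd_card g.range
    rwa [← Nat.card_congr (QuotientGroup.quotientKerEquivRange g).toEquiv, h5] at h6
  rw [h3, Nat.card_congr e.toEquiv, mul_comm]
  exact mul_dvd_mul_left _ h4

theorem tame_over_card [Finite S] [hp : Fact p.Prime] (hZ : Subgroup.center S = ⊥) (hn : NoCover p S)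
    (ho : OutAb p S) (hd : ¬ p ^ 12 ∣ Nat.card S * Nat.card (Out S)) : Tame p S :=
  tame_over hZ hn ho fun _ _ _ _ hN => dlLe_three' fun h => hd (h.trans (card_over hN))

/-- Transport. -/
theorem OutAb.congr {S' : Type v} [Group S'] (e : S ≃* S') (h : OutAb p S') : OutAb p S := by
  intro R hR
  have h1 := h (R.map (MulAut.congr e).toMonoidHom) (hR.map _)
  rw [← Subgroup.map_commutator] at h1
  intro a ha
  obtain ⟨s, hs⟩ := h1 (Subgroup.mem_map_of_mem _ ha)
  refine ⟨e.symm s, ?_⟩
  ext x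
  have h2 : (MulAut.conj s) (e x) = (MulAut.congr e a) (e x) := by rw [hs]; rfl
  rw [MulAut.conj_apply] at h2
  have h3 : (MulAut.congr e a) (e x) = e (a x) := by
    change e (a (e.symm (e x))) = e (a x)
    rw [e.symm_apply_apply]
  rw [h3] at h2
  apply e.injective
  rw [← h2, MulAut.conj_apply, map_mul, map_mul, map_inv, e.apply_symm_apply]

theorem Tame.congr {S' : Type u} [Group S'] (e : S ≃* S') (h : Tame p S') : Tame p S := by
  intro G _ _ L Q hc P
  refine h G L Q ⟨hc.normL, hc.perf, hc.normQ, hc.le, hc.pgrp, hc.idx, hc.metab, ?_⟩ P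
  obtain ⟨f, hf, hk⟩ := hc.iso
  refine ⟨e.toMonoidHom.comp f, e.surjective.comp hf, fun x => ?_⟩
  rw [← hk, MonoidHom.comp_apply]
  change e (f x) = 1 ↔ _
  rw [map_eq_one_iff e e.injective]

end Cfsg.Agent.H585.BD
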