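import Cfsg.Agent.H585.BD.Card
import Cfsg.Agent.H234.OutGood
import Cfsg.Agent.Lib.NormalRankFour

/-!
# Criteria for `OutAb p S`

* `outAb_of_ker` : a homomorphism from `Out S` to a cyclic group with kernel of order not divisible by `p²`;
* `outAb_of_ker_comm` : to a commutative group with kernel of order not divisible by `p`;
* `outAb_of_rel` : the same from a relation (`H234.OutGood.good_of_rel`);
* `outAb_of_prod` : `Out S ≃* A × B`, `B` commutative, `p²` does not divide `#A`.
-/

set_option autoImplicit false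
set_option linter.style.haveILetI false

namespace Cfsg.Agent.H585.BD

open Cfsg Cfsg.Agent.H234.OutGood
open scoped commutatorElement

universe u v

variable {p : ℕ} {S : Type u} [Group S]

/-- `p`-groups with a homomorphism to a cyclic group with small kernel are commutative. -/
theorem comm_of_ker [hp : Fact p.Prime] {R : Type u} [Group R] [Finite R] {B : Type v} [Group B] (hR : IsPGroup p R)
    (φ : R →* B) (hB : IsCyclic φ.range) (hk : ¬ p ^ 2 ∣ Nat.card φ.ker) (x y : R) : x * y = y * x := by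
  have h1 : φ.ker ≤ Subgroup.center R := by
    apply Lib.NormalRankFour.le_center_of_card_le hR
    obtain ⟨n, hn⟩ := IsPGroup.iff_card.1 (hR.to_subgroup φ.ker)
    have h2 : n < 2 := by
      by_contra hcon
      exact hk (hn ▸ pow_dvd_pow p (not_lt.1 hcon))
    rw [hn]
    calc p ^ n ≤ p ^ 1 := Nat.pow_le_pow_right hp.out.pos (by omega)
      _ = p := pow_one p
  have h2 : φ.rangeRestrict.ker ≤ Subgroup.center R := by rwa [MonoidHom.ker_rangeRestrict]
  exact (MonoidHom.isMulCommutative_of_isCyclic_of_ker_le_center φ.rangeRestrict h2).is_comm.comm x y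

theorem outAb_of_out (h : ∀ R : Subgroup (Out S), IsPGroup p R → ∀ x ∈ R, ∀ y ∈ R, x * y = y * x) : OutAb p S :=
  outAb_of_hom (QuotientGroup.mk' (Inn S)) (fun a ha => (QuotientGroup.eq_one_iff a).1 ha) h

/-- A homomorphism to a cyclic group, kernel not divisible by `p ^ 2`. -/
theorem outAb_of_ker [hp : Fact p.Prime] [Finite (Out S)] {B : Type v} [Group B] [IsCyclic B] (φ : Out S →* B)
    (hk : ¬ p ^ 2 ∣ Nat.card φ.ker) : OutAb p S := by
  refine outAb_of_out fun R hR x hx y hy => ?_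
  have h1 := comm_of_ker hR (φ.comp R.subtype) inferInstance (fun h => hk (h.trans ?_)) ⟨x, hx⟩ ⟨y, hy⟩
  · exact congrArg Subtype.val h1
  · have h2 : ((φ.comp R.subtype).ker).map R.subtype ≤ φ.ker := by
      rintro _ ⟨a, ha, rfl⟩
      exact ha
    have h3 : Nat.card (φ.comp R.subtype).ker = Nat.card (((φ.comp R.subtype).ker).map R.subtype) :=
      Nat.card_congr (((φ.comp R.subtype).ker).equivMapOfInjective _ R.subtype_injective).toEquiv
    rw [h3]
    exact Subgroup.card_dvd_of_le h2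

/-- A homomorphism to a commutative group, kernel not divisible by `p`. -/
theorem outAb_of_ker_comm [hp : Fact p.Prime] {B : Type v} [Group B] (hB : ∀ a b : B, a * b = b * a)
    (φ : Out S →* B) (hk : ¬ p ∣ Nat.card φ.ker) : OutAb p S := by
  refine outAb_of_out fun R hR x hx y hy => ?_
  rw [← mul_inv_eq_one]
  have h1 : x * y * (y * x)⁻¹ ∈ φ.ker := by
    rw [MonoidHom.mem_ker, map_mul, map_inv, map_mul, map_mul, hB (φ y) (φ x), mul_inv_cancel]
  have h2 : x * y * (y * x)⁻¹ ∈ R := mul_mem (mul_mem hx hy) (inv_mem (mul_mem hy hx))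
  obtain ⟨k, hk'⟩ := hR ⟨_, h2⟩
  have h3 : (x * y * (y * x)⁻¹) ^ p ^ k = 1 := congrArg Subtype.val hk'
  have h4 : orderOf (x * y * (y * x)⁻¹) ∣ Nat.card φ.ker := Subgroup.orderOf_dvd_natCard _ h1
  obtain ⟨j, -, hj⟩ := (Nat.dvd_prime_pow hp.out).1 (orderOf_dvd_of_pow_eq_one h3)
  rcases Nat.eq_zero_or_pos j with h0 | h0
  · rw [h0, pow_zero, orderOf_eq_one_iff] at hj
    exact hj
  · exact absurd ((dvd_pow_self p h0.ne').trans (hj ▸ h4)) hk

/-- The version with a relation. -/
theorem outAb_of_rel [hp : Fact p.Prime] [Finite (MulAut S)] {Γ : Type v} [Group Γ] [Finite Γ] [IsCyclic Γ]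
    (Rel : MulAut S → Γ → Prop)
    (h1 : ∀ α : MulAut S, ∃ (g : S) (c : Γ), Rel (MulAut.conj g * α) c)
    (h2 : ∀ β c β' c', Rel β c → Rel β' c' → Rel (β * β') (c * c'))
    (h3 : ∀ (g : S) c, Rel (MulAut.conj g) c → c = 1)
    (h4 : ∀ c, ∃ β, Rel β c) {k : ℕ} (hk : Nat.card (Out S) = k * Nat.card Γ) (h : ¬ p ^ 2 ∣ k) :
    OutAb p S := by
  obtain ⟨ψ, hψ⟩ := exists_hom_of_rel Rel h1 h2 h3
  refine outAb_of_ker ψ ?_
  have hs : Function.Surjective ψ := by
    intro c
    obtain ⟨β, hβ⟩ := h4 c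
    exact ⟨_, hψ β c hβ⟩
  have h5 : Nat.card ψ.ker = k := by
    have h6 := Subgroup.card_mul_index ψ.ker
    rw [Subgroup.index_ker, MonoidHom.range_eq_top.2 hs, Subgroup.card_top, hk] at h6
    exact Nat.eq_of_mul_eq_mul_right Nat.card_pos h6
  rwa [h5]

/-- Cyclic outer automorphism group. -/
theorem outAb_of_cyclic (h : IsCyclic (Out S)) : OutAb p S :=
  outAb_of_comm fun x y => (IsCyclic.isMulCommutative (α := Out S)).is_comm.comm x y

/-- If all automorphisms are powers of one of them modulo inner automorphisms. -/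
theorem outAb_of_cyc (h : ∃ β : MulAut S, ∀ α : MulAut S, ∃ (g : S) (k : ℤ), α = MulAut.conj g * β ^ k) :
    OutAb p S := by
  obtain ⟨β, h⟩ := h
  refine outAb_of_cyclic ⟨⟨QuotientGroup.mk' (Inn S) β, fun x => ?_⟩⟩
  obtain ⟨α, rfl⟩ := QuotientGroup.mk'_surjective (Inn S) x
  obtain ⟨g, k, rfl⟩ := h α
  refine ⟨k, ?_⟩
  have h1 : QuotientGroup.mk' (Inn S) (MulAut.conj g) = 1 := (QuotientGroup.eq_one_iff _).2 ⟨g, rfl⟩
  show (QuotientGroup.mk' (Inn S) β) ^ k = _
  rw [map_mul, h1, one_mul, map_zpow]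

/-- A small group times a commutative group. -/
theorem outAb_of_prod [hp : Fact p.Prime] {A B : Type v} [Group A] [Finite A] [Group B]
    (hB : ∀ a b : B, a * b = b * a) (hA : ¬ p ^ 3 ∣ Nat.card A) (e : Out S ≃* A × B) : OutAb p S := by
  refine outAb_of_out fun R hR x hx y hy => ?_
  apply e.injective
  rw [map_mul, map_mul]
  refine Prod.ext ?_ (hB _ _)
  let f : Out S →* A := (MonoidHom.fst A B).comp e.toMonoidHom
  have hR' : IsPGroup p (R.map f) := hR.map f
  obtain ⟨n, hn⟩ := IsPGroup.iff_card.1 hR'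
  have h1 : n < 3 := by
    by_contra hcon
    refine hA ((pow_dvd_pow p (not_lt.1 hcon)).trans ?_)
    rw [← hn]
    exact Subgroup.card_subgroup_dvd_card _
  have h2 : ∀ a b : ↥(R.map f), a * b = b * a := by
    have h3 : n = 0 ∨ n = 1 ∨ n = 2 := by omega
    rcases h3 with rfl | rfl | rfl
    · intro a b
      rw [pow_zero] at hn
      haveI := (Nat.card_eq_one_iff_unique.1 hn).1
      exact Subsingleton.elim _ _
    · rw [pow_one] at hn
      haveI := isCyclic_of_prime_card hn
      intro a b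
      exact (IsCyclic.isMulCommutative (α := ↥(R.map f))).is_comm.comm a b
    · intro a b
      exact (IsPGroup.isMulCommutative_of_card_eq_prime_sq hn).is_comm.comm a b
  exact congrArg Subtype.val (h2 ⟨f x, Subgroup.mem_map_of_mem f hx⟩ ⟨f y, Subgroup.mem_map_of_mem f hy⟩)

end Cfsg.Agent.H585.BD
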