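import Cfsg.Agent.H585.BD.OutFam
import Cfsg.Agent.H755.Dl.Lin
import Cfsg.Agent.H798.PSLDih
import Cfsg.Agent.H759.Dl.Small
import Cfsg.Agent.H934.OutAll

/-!
# `PSL₂(q)` in cross characteristic is tame (S4932)
-/

set_option autoImplicit false
set_option linter.style.haveILetI false

namespace Cfsg.Agent.H585.BD

open Cfsg Cfsg.Agent.H246.Dl Cfsg.Agent.H589.BD
open scoped commutatorElement

universe u v

/-- the commutator subgroup of a dihedral group -/
theorem dihedral_comm (m : ℕ) (a b : DihedralGroup m) : ∃ i : ZMod m, ⁅a, b⁆ = DihedralGroup.r i := by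
  rcases a with i | i <;> rcases b with j | j <;>
    simp only [commutatorElement_def, DihedralGroup.r_mul_r, DihedralGroup.r_mul_sr, DihedralGroup.sr_mul_r,
      DihedralGroup.sr_mul_sr, DihedralGroup.inv_r, DihedralGroup.inv_sr] <;> exact ⟨_, rfl⟩

theorem dihedral_comm_le (m : ℕ) : commutator (DihedralGroup m) ≤ Subgroup.zpowers (DihedralGroup.r 1) := by
  rw [commutator_def, Subgroup.commutator_le]
  intro a _ b _
  obtain ⟨i, hi⟩ := dihedral_comm m a b
  rw [hi]
  refine ⟨(i.cast : ℤ), ?_⟩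
  simp

/-- dihedral Sylow subgroups -/
theorem cyc_of_sylow {p : ℕ} [hp : Fact p.Prime] {S : Type u} [Group S] [Finite S] (P : Sylow p S)
    (h : ∃ c : ↥(P : Subgroup S), commutator ↥(P : Subgroup S) ≤ Subgroup.zpowers c) (X : Subgroup S)
    (hX : IsPGroup p X) : ∃ c : S, ⁅X, X⁆ ≤ Subgroup.zpowers c := by
  obtain ⟨P', hP'⟩ := hX.exists_le_sylow
  obtain ⟨g, hg⟩ := MulAction.exists_smul_eq S P P'
  obtain ⟨c, hc⟩ := h
  refine ⟨g * c * g⁻¹, (Subgroup.commutator_mono hP' hP').trans ?_⟩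
  have h1 : ((g • P : Sylow p S) : Subgroup S) = (P : Subgroup S).map (MulAut.conj g).toMonoidHom := rfl
  rw [← hg, h1, ← Subgroup.map_commutator, Subgroup.map_le_iff_le_comap]
  intro x hx
  have h2 : ⁅(P : Subgroup S), (P : Subgroup S)⁆ = (commutator ↥(P : Subgroup S)).map (P : Subgroup S).subtype := by
    rw [commutator_def, Subgroup.map_commutator, ← MonoidHom.range_eq_map, Subgroup.range_subtype]
  rw [h2] at hx
  obtain ⟨y, hy, rfl⟩ := hx
  obtain ⟨k, hk⟩ := hc hy
  refine ⟨k, ?_⟩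
  have h3 : ((c : ↥(P : Subgroup S)) : S) ^ k = (y : S) := by
    have := congrArg Subtype.val hk
    simpa using this
  change (g * (c : S) * g⁻¹) ^ k = g * (y : S) * g⁻¹
  rw [conj_zpow, h3]

theorem cyc_of_dihedral {p : ℕ} [hp : Fact p.Prime] {S : Type u} [Group S] [Finite S] (P : Sylow p S) {m : ℕ}
    (e : Nonempty (↥(P : Subgroup S) ≃* DihedralGroup m)) (X : Subgroup S)
    (hX : IsPGroup p X) : ∃ c : S, ⁅X, X⁆ ≤ Subgroup.zpowers c := by
  obtain ⟨e⟩ := e
  refine cyc_of_sylow P ⟨e.symm (DihedralGroup.r 1), ?_⟩ X hX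
  intro x hx
  have h1 : e x ∈ commutator (DihedralGroup m) := by
    have h2 : (commutator ↥(P : Subgroup S)).map e.toMonoidHom ≤ commutator (DihedralGroup m) := by
      rw [commutator_def, commutator_def, Subgroup.map_commutator]
      exact Subgroup.commutator_mono le_top le_top
    exact h2 (Subgroup.mem_map_of_mem _ hx)
  obtain ⟨k, hk⟩ := dihedral_comm_le m h1
  refine ⟨k, ?_⟩
  apply e.injective
  rw [map_zpow, e.apply_symm_apply]
  exact hk

theorem isPGroup_congr_map {p : ℕ} {S : Type u} {T : Type v} [Group S] [Group T] (e : S ≃* T) {X : Subgroup S}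
    (h : ∀ Y : Subgroup T, IsPGroup p Y → ∃ c : T, ⁅Y, Y⁆ ≤ Subgroup.zpowers c) (hX : IsPGroup p X) :
    ∃ c : S, ⁅X, X⁆ ≤ Subgroup.zpowers c := by
  obtain ⟨c, hc⟩ := h (X.map e.toMonoidHom) (hX.map _)
  rw [← Subgroup.map_commutator] at hc
  refine ⟨e.symm c, fun x hx => ?_⟩
  obtain ⟨k, hk⟩ := hc (Subgroup.mem_map_of_mem _ hx)
  refine ⟨k, ?_⟩
  apply e.injective
  rw [map_zpow, e.apply_symm_apply]
  exact hk

section psl

variable {F : Type v} [Field F] [Fintype F] {p : ℕ} [hp : Fact p.Prime]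

/-- `p` odd, cross characteristic. -/
theorem dlLe_psl_ne (hp2 : p ≠ 2) (hpF : (p : F) ≠ 0) : DlLe p 1 (Matrix.ProjectiveSpecialLinearGroup (Fin 2) F) := by
  haveI : Finite (Matrix.SpecialLinearGroup (Fin 2) F) := inferInstance
  have h := H755.Dl.DlLe_ne (F := F) (n := 2) (G := Matrix.SpecialLinearGroup (Fin 2) F)
    (S := Matrix.ProjectiveSpecialLinearGroup (Fin 2) F) (p := p) (f := QuotientGroup.mk' _)
    (ρ := Matrix.SpecialLinearGroup.toGL) hpF (QuotientGroup.mk'_surjective _) Matrix.SpecialLinearGroup.toGL_injective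
  have h1 : Nat.log p 2 = 0 := Nat.log_of_lt (by have := hp.out.two_le; omega)
  rwa [h1] at h

/-- Tame: `PSL₂(q)`, `p` does not divide `q`. -/
theorem tame_psl_two {S : Type u} [Group S] [Finite S] [IsSimpleGroup S] (hna : ¬ IsMulCommutative S)
    (e : S ≃* Matrix.ProjectiveSpecialLinearGroup (Fin 2) F) (h4 : 4 ≤ Fintype.card F)
    (hpF : ¬ p ∣ Fintype.card F) : Tame p S := by
  have hZ := center_simple hna
  have hO : OutAb p S := OutAb.congr e (outAb_psl_two h4)
  haveI hfin : Finite (Matrix.ProjectiveSpecialLinearGroup (Fin 2) F) := Finite.of_equiv S e.toEquiv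
  have hpF' : (p : F) ≠ 0 := by
    intro h
    obtain ⟨r, hr⟩ := CharP.exists F
    obtain ⟨f, hrp, hf⟩ := FiniteField.card F r
    have h1 : r ∣ p := (CharP.cast_eq_zero_iff F r p).1 h
    have h2 : r = p := (Nat.prime_dvd_prime_iff_eq hrp hp.out).1 h1
    apply hpF
    rw [hf, h2]
    exact dvd_pow_self p f.pos.ne'
  by_cases hp2 : p = 2
  · subst hp2
    have hodd : Odd (Fintype.card F) := by
      rw [← Nat.not_even_iff_odd, even_iff_two_dvd]
      exact hpF
    by_cases h16 : 16 ∣ Fintype.card F ^ 2 - 1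
    · refine tame_two hZ (covDl_of_cyclic fun X hX => isPGroup_congr_map e (fun Y hY => ?_) hX) hO
      obtain ⟨k, -, h⟩ := H798.psl_two_dihedral (Nat.odd_iff.1 hodd) h16
        (default : Sylow 2 (Matrix.ProjectiveSpecialLinearGroup (Fin 2) F))
      exact cyc_of_dihedral _ h Y hY
    · refine tame_one hZ (H759.Dl.dlLe_one_of_card hp.out fun h => h16 ?_) hO
      have h1 := SmallSimple.PSLTwoPart.card_psl_two_odd (F := F) hodd
      rw [Nat.card_congr e.toEquiv] at h
      have h2 : 2 ^ 4 ∣ Fintype.card F * (Fintype.card F ^ 2 - 1) := by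
        rw [← h1]
        exact Nat.mul_dvd_mul_left 2 h
      exact (Nat.Coprime.pow_left 4 (Nat.coprime_two_left.2 hodd)).dvd_of_dvd_mul_left h2
  · exact tame_one hZ (DlLe.of_equiv e (dlLe_psl_ne hp2 hpF')) hO

end psl

end Cfsg.Agent.H585.BD
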