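import Cfsg.Agent.H585.BD.PslTwo
import Cfsg.Agent.H487.SchurMult
import Cfsg.Agent.H133.FibPce
import Cfsg.Agent.H315.Cov.No
import Cfsg.Agent.H315.Cov.Lin
import Cfsg.Agent.H315.Cov.Uni
import Cfsg.Agent.LieClassical.HermPerfect
import Cfsg.Agent.S0279
import Cfsg.Agent.S0280
import Cfsg.Agent.S0248
import Cfsg.Agent.S2089
import Cfsg.Agent.S2086
import Cfsg.Agent.S2087
import Cfsg.Agent.S2088

/-!
# `PSL₃(q)`, `PSU₃(q)` are tame (S4932)

* `tame_psl_three_two`, `tame_psu_three_two` : `p = 2`, `q` odd;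
* `tame_psl_three_three`, `tame_psu_three_three` : `p = 3` does not divide `q`.
-/

set_option autoImplicit false
set_option linter.style.haveILetI false

namespace Cfsg.Agent.H585.BD

open Cfsg Cfsg.Agent.H246.Dl Cfsg.Agent.H589.BD Cfsg.Agent.H133.FibPce Cfsg.Agent.H51.Mult

universe u v

section

variable {F : Type v} [Field F] [Fintype F] {p : ℕ} [hp : Fact p.Prime]

theorem cast_ne_of (hpF : ¬ p ∣ Fintype.card F) : (p : F) ≠ 0 := by
  intro h
  obtain ⟨r, hr⟩ := CharP.exists F
  obtain ⟨f, hrp, hf⟩ := FiniteField.card F r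
  have h1 : r ∣ p := (CharP.cast_eq_zero_iff F r p).1 h
  have h2 : r = p := (Nat.prime_dvd_prime_iff_eq hrp hp.out).1 h1
  apply hpF
  rw [hf, h2]
  exact dvd_pow_self p f.pos.ne'

theorem dlLe_psl {n : ℕ} (hpF : (p : F) ≠ 0) :
    DlLe p (Nat.log p n + 1) (Matrix.ProjectiveSpecialLinearGroup (Fin n) F) := by
  haveI : Finite (Matrix.SpecialLinearGroup (Fin n) F) := inferInstance
  exact H755.Dl.DlLe_ne (F := F) (n := n) (G := Matrix.SpecialLinearGroup (Fin n) F)
    (S := Matrix.ProjectiveSpecialLinearGroup (Fin n) F) (p := p) (f := QuotientGroup.mk' _)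
    (ρ := Matrix.SpecialLinearGroup.toGL) hpF (QuotientGroup.mk'_surjective _) Matrix.SpecialLinearGroup.toGL_injective

theorem dlLe_su {n q : ℕ} (hpF : (p : F) ≠ 0) : DlLe p (Nat.log p n + 1) (SU n F q) := by
  haveI : Finite (Matrix.SpecialLinearGroup (Fin n) F) := inferInstance
  haveI : Finite (SU n F q) := inferInstance
  refine H755.Dl.DlLe_ne (F := F) (n := n) (G := SU n F q) (S := SU n F q) (p := p) (f := MonoidHom.id _)
    (ρ := Matrix.SpecialLinearGroup.toGL.comp (SU n F q).subtype) hpF Function.surjective_id ?_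
  exact Matrix.SpecialLinearGroup.toGL_injective.comp (SU n F q).subtype_injective

theorem dlLe_psu {n q : ℕ} (hpF : (p : F) ≠ 0) : DlLe p (Nat.log p n + 1) (PSU n F q) := by
  haveI : Finite (Matrix.SpecialLinearGroup (Fin n) F) := inferInstance
  haveI : Finite (SU n F q) := inferInstance
  refine H755.Dl.DlLe_ne (F := F) (n := n) (G := SU n F q) (S := PSU n F q) (p := p) (f := QuotientGroup.mk' _)
    (ρ := Matrix.SpecialLinearGroup.toGL.comp (SU n F q).subtype) hpF (QuotientGroup.mk'_surjective _) ?_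
  exact Matrix.SpecialLinearGroup.toGL_injective.comp (SU n F q).subtype_injective

end

section two

variable {F : Type v} [Field F] [Fintype F] {S : Type u} [Group S] [Finite S] [IsSimpleGroup S]

theorem not_two_dvd_gcd_three (m : ℕ) : ¬ 2 ∣ Nat.gcd 3 m := fun h => by
  have h1 := h.trans (Nat.gcd_dvd_left 3 m)
  omega

/-- `PSL₃(q)`, `q` odd, `p = 2`. -/
theorem tame_psl_three_two (hna : ¬ IsMulCommutative S)
    (e : S ≃* Matrix.ProjectiveSpecialLinearGroup (Fin 3) F) (hodd : ¬ 2 ∣ Fintype.card F) : Tame 2 S := by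
  haveI : Fact (Nat.Prime 2) := ⟨Nat.prime_two⟩
  have h1 : DlLe 2 2 (Matrix.ProjectiveSpecialLinearGroup (Fin 3) F) := by
    have h := dlLe_psl (F := F) (p := 2) (n := 3) (cast_ne_of hodd)
    have h2 : Nat.log 2 3 = 1 := by decide
    rwa [h2] at h
  refine tame_noCover (center_simple hna) ?_ (DlLe.of_equiv e h1)
    (OutAb.congr e (outAb_psl le_rfl (not_two_dvd_gcd_three _)))
  refine (H315.Cov.noMul_psl (p := 2) Nat.prime_two (F := F) 3 (by norm_num) (by norm_num)
    (not_two_dvd_gcd_three _) ?_ (by norm_num)).noCover_of_equiv e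
  intro _ h
  simp only [Set.mem_insert_iff, Set.mem_singleton_iff, Prod.mk.injEq] at h
  omega

/-- `PSU₃(q)`, `q` odd, `p = 2`. -/
theorem tame_psu_three_two (hna : ¬ IsMulCommutative S) {q : ℕ} (hF : Fintype.card F = q ^ 2)
    (e : S ≃* PSU 3 F q) (h32 : ¬ ((3 : ℕ) = 3 ∧ q = 2)) (hodd : ¬ 2 ∣ q) : Tame 2 S := by
  haveI : Fact (Nat.Prime 2) := ⟨Nat.prime_two⟩
  have hodd' : ¬ 2 ∣ Fintype.card F := by
    rw [hF]
    exact fun h => hodd (Nat.prime_two.dvd_of_dvd_pow h)
  have h1 : DlLe 2 2 (PSU 3 F q) := by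
    have h := dlLe_psu (F := F) (p := 2) (n := 3) (q := q) (cast_ne_of hodd')
    have h2 : Nat.log 2 3 = 1 := by decide
    rwa [h2] at h
  refine tame_noCover (center_simple hna) ?_ (DlLe.of_equiv e h1)
    (OutAb.congr e (outAb_psu hF le_rfl h32 fun h => not_two_dvd_gcd_three _ ((dvd_pow_self 2 two_ne_zero).trans h)))
  refine (H315.Cov.noMul_psu (p := 2) Nat.prime_two (F := F) 3 q hF le_rfl h32
    (not_two_dvd_gcd_three _) ?_ (by norm_num)).noCover_of_equiv e
  intro _ h
  simp only [Set.mem_insert_iff, Set.mem_singleton_iff, Prod.mk.injEq] at h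
  omega

end two

section cover

variable {p : ℕ} [hp : Fact p.Prime] {S : Type u} [Group S]

/-- If the kernel of the cover `L` of `S` contains the `p`-part of the Schur multiplier, then `L` governs the Sylow
`p`-subgroups of all perfect central extensions of `S`. -/
theorem covDl_of_cover {k : ℕ} {A : Type*} [CommGroup A] [Finite A] (hM : HasSchurMultiplier S A) {L : Type v}
    [Group L] [Finite L] {π : L →* S} (hπ : PCE π) {m : ℕ} (hm : ¬ p ∣ m)
    (hc : Nat.card A ∣ Nat.card π.ker * m) (hd : DlLe p k L) : CovDl p S k := by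
  intro Y _ _ f hf
  have hρ : PCE f := ⟨hf.surj, fun y hy => hf.cent y (MonoidHom.mem_ker.1 hy), hf.perf⟩
  obtain ⟨h1, h2⟩ := pce_comm hπ hρ
  set Γ := commutator (Cfsg.Agent.H68.Bounds.fib π f) with hΓ
  let g1 : ↥Γ →* L := (p1 π f).comp Γ.subtype
  let g2 : ↥Γ →* Y := (p2 π f).comp Γ.subtype
  let τ : ↥Γ →* S := π.comp g1
  have hτ : PCE τ :=
    Cfsg.Agent.H51.Tools.pce_of_central (pj_surj hπ.surj hρ.surj) (pj_ker hπ.cen hρ.cen) hπ.perf_base
  obtain ⟨φ, hφ⟩ := H487.HasSchurMultiplier.exists_surj_ker hM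
    (⟨hτ.surj, hτ.cen, by rw [hτ.perf]; exact le_top⟩ : IsStemExtension τ)
  have e1 : Nat.card ↥Γ = Nat.card S * Nat.card τ.ker := by
    rw [Subgroup.card_eq_card_quotient_mul_card_subgroup τ.ker,
      Nat.card_congr (QuotientGroup.quotientKerEquivOfSurjective τ hτ.surj).toEquiv]
  have e2 : Nat.card L = Nat.card S * Nat.card π.ker := by
    rw [Subgroup.card_eq_card_quotient_mul_card_subgroup π.ker,
      Nat.card_congr (QuotientGroup.quotientKerEquivOfSurjective π hπ.surj).toEquiv]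
  have e3 : Nat.card τ.ker ∣ Nat.card A := Subgroup.card_dvd_of_surjective φ hφ
  have e4 : Nat.card ↥Γ = Nat.card L * Nat.card g1.ker := by
    rw [Subgroup.card_eq_card_quotient_mul_card_subgroup g1.ker,
      Nat.card_congr (QuotientGroup.quotientKerEquivOfSurjective g1 h1.surj).toEquiv]
  have e5 : Nat.card g1.ker ∣ m := by
    have h3 : Nat.card L * Nat.card g1.ker ∣ Nat.card L * m := by
      rw [← e4, e1, e2, mul_assoc]
      exact mul_dvd_mul_left _ (e3.trans hc)
    exact Nat.dvd_of_mul_dvd_mul_left Nat.card_pos h3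
  refine H755.Dl.DlLe_of_surjective (f := g2) h2.surj fun Q hQ => ?_
  have hinj : Function.Injective (g1.comp Q.subtype) := by
    rw [injective_iff_map_eq_one]
    intro x hx
    obtain ⟨j, hj⟩ := hQ x
    have h3 : ((x : ↥Q) : ↥Γ) ∈ g1.ker := hx
    have h4 : ((x : ↥Q) : ↥Γ) ^ p ^ j = 1 := by rw [← Subgroup.coe_pow, hj, Subgroup.coe_one]
    have h5 := Subgroup.orderOf_dvd_natCard _ h3
    obtain ⟨i, -, hi⟩ := (Nat.dvd_prime_pow hp.out).1 (orderOf_dvd_of_pow_eq_one h4)
    rcases Nat.eq_zero_or_pos i with h0 | h0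
    · rw [h0, pow_zero, orderOf_eq_one_iff] at hi
      exact Subtype.ext hi
    · exact absurd (((dvd_pow_self p h0.ne').trans (hi ▸ h5)).trans e5) hm
  rw [← dS_top, dS_eq_bot_of_inj _ hinj]
  exact dS_of_dlLe hd ((IsPGroup.of_injective (p := p) hQ (Subgroup.topEquiv (G := ↥Q)).toMonoidHom
    (Subgroup.topEquiv (G := ↥Q)).injective).map _)

end cover

section three

variable {F : Type v} [Field F] [Fintype F] {S : Type u} [Group S] [Finite S] [IsSimpleGroup S]

omit [Finite S] in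
/-- `PSU₃(q)`, `p = 3 ∤ q`. -/
theorem tame_psu_three_three (hna : ¬ IsMulCommutative S) {q : ℕ} (hF : Fintype.card F = q ^ 2)
    (e : S ≃* PSU 3 F q) (h32 : ¬ ((3 : ℕ) = 3 ∧ q = 2)) (h3 : ¬ 3 ∣ q) : Tame 3 S := by
  haveI : Fact (Nat.Prime 3) := ⟨Nat.prime_three⟩
  haveI : Finite (Matrix.SpecialLinearGroup (Fin 3) F) := inferInstance
  haveI : Finite (SU 3 F q) := inferInstance
  have h3' : ¬ 3 ∣ Fintype.card F := by
    rw [hF]
    exact fun h => h3 (Nat.prime_three.dvd_of_dvd_pow h)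
  have h1 : DlLe 3 2 (SU 3 F q) := by
    have h := dlLe_su (F := F) (p := 3) (n := 3) (q := q) (cast_ne_of h3')
    have h2 : Nat.log 3 3 = 1 := by decide
    rwa [h2] at h
  have hg : Nat.gcd 3 (q + 1) ≠ 0 := fun h => absurd (Nat.gcd_eq_zero_iff.1 h).1 (by norm_num)
  haveI : NeZero (Nat.gcd 3 (q + 1)) := ⟨hg⟩
  haveI : Finite (Multiplicative (ZMod (Nat.gcd 3 (q + 1)))) := inferInstanceAs (Finite (ZMod _))
  have hO : OutAb 3 S := OutAb.congr e (outAb_psu hF le_rfl h32 fun h => by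
    have := Nat.le_of_dvd (by norm_num) (h.trans (Nat.gcd_dvd_left 3 (q + 1)))
    omega)
  have hM : HasCyclicSchurMultiplier S (Nat.gcd 3 (q + 1)) :=
    H487.HasSchurMultiplier.congr_left (S2089.result 3 q hF le_rfl h32 (by simp)) e.symm
  have hperf : commutator (SU 3 F q) = ⊤ :=
    Cfsg.Agent.LieClassical.HermPerfect.commutator_SU_eq_top hF le_rfl h32
  let π : SU 3 F q →* S := e.symm.toMonoidHom.comp (QuotientGroup.mk' _)
  have hk : π.ker = Subgroup.center (SU 3 F q) := by
    ext x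
    rw [MonoidHom.mem_ker]
    change e.symm (QuotientGroup.mk' _ x) = 1 ↔ _
    rw [map_eq_one_iff _ e.symm.injective]
    exact QuotientGroup.eq_one_iff x
  have hπ : PCE π := ⟨e.symm.surjective.comp (QuotientGroup.mk'_surjective _), hk.le, hperf⟩
  refine tame_two (center_simple hna) (covDl_of_cover hM hπ (m := 1) (by norm_num) ?_ h1) hO
  rw [hk, S0279.result hF 3 le_rfl, mul_one]
  exact (Nat.card_zmod _).dvd

/-- `OutAb` for `PSL_n(q)`, `p ^ 2` does not divide `2 gcd(n, q - 1)`. -/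
theorem outAb_psl' {p : ℕ} [hp : Fact p.Prime] {n : ℕ} (hn : 3 ≤ n)
    (hg : ¬ p ^ 2 ∣ 2 * Nat.gcd n (Fintype.card F - 1)) :
    OutAb p (Matrix.ProjectiveSpecialLinearGroup (Fin n) F) := by
  obtain ⟨r, hchar⟩ := CharP.exists F
  obtain ⟨f, hr, hf⟩ := FiniteField.card F r
  have hrf : Fact r.Prime := ⟨hr⟩
  haveI : NeZero (f : ℕ) := ⟨f.pos.ne'⟩
  haveI : Finite (Out (Matrix.ProjectiveSpecialLinearGroup (Fin n) F)) := finite_out
  obtain ⟨φ, h0, h1, h2⟩ := S2601.result (F := F) f.pos hf hn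
  let e : Multiplicative (ZMod (f : ℕ) × ZMod 2) ≃* Multiplicative (ZMod f) × Multiplicative (ZMod 2) :=
    MulEquiv.prodMultiplicative (G := ZMod f) (H := ZMod 2)
  let ψ : Out (Matrix.ProjectiveSpecialLinearGroup (Fin n) F) →* Multiplicative (ZMod (f : ℕ)) :=
    (MonoidHom.fst _ _).comp (e.toMonoidHom.comp φ)
  have hψ : Function.Surjective ψ := Prod.fst_surjective.comp (e.surjective.comp h0)
  have hcf : Nat.card (Multiplicative (ZMod (f : ℕ))) = f := Nat.card_zmod _
  have hc2 : Nat.card (Multiplicative (ZMod (f : ℕ) × ZMod 2)) = f * 2 := by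
    rw [Nat.card_congr e.toEquiv, Nat.card_prod, hcf]
    congr 1
    exact Nat.card_zmod 2
  have e1 : Nat.card (Out (Matrix.ProjectiveSpecialLinearGroup (Fin n) F)) = f * 2 * Nat.card φ.ker := by
    rw [Subgroup.card_eq_card_quotient_mul_card_subgroup φ.ker,
      Nat.card_congr (QuotientGroup.quotientKerEquivOfSurjective φ h0).toEquiv, hc2]
  have e2 : Nat.card (Out (Matrix.ProjectiveSpecialLinearGroup (Fin n) F)) = f * Nat.card ψ.ker := by
    rw [Subgroup.card_eq_card_quotient_mul_card_subgroup ψ.ker,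
      Nat.card_congr (QuotientGroup.quotientKerEquivOfSurjective ψ hψ).toEquiv, hcf]
  refine outAb_of_ker ψ ?_
  have e3 : Nat.card ψ.ker = 2 * Nat.gcd n (Fintype.card F - 1) := by
    rw [e1, h2, ← hf, mul_assoc] at e2
    exact (Nat.eq_of_mul_eq_mul_left f.pos e2).symm
  rwa [e3]

omit [Finite S] in
/-- `PSL₃(q)`, `p = 3 ∤ q`. -/
theorem tame_psl_three_three (hna : ¬ IsMulCommutative S) (e : S ≃* Matrix.ProjectiveSpecialLinearGroup (Fin 3) F)
    (h3 : ¬ 3 ∣ Fintype.card F) : Tame 3 S := by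
  haveI : Fact (Nat.Prime 3) := ⟨Nat.prime_three⟩
  haveI : Finite (Matrix.SpecialLinearGroup (Fin 3) F) := inferInstance
  have h1 : DlLe 3 2 (Matrix.SpecialLinearGroup (Fin 3) F) := by
    have h := H755.Dl.DlLe_ne (F := F) (n := 3) (G := Matrix.SpecialLinearGroup (Fin 3) F)
      (S := Matrix.SpecialLinearGroup (Fin 3) F) (p := 3) (f := MonoidHom.id _)
      (ρ := Matrix.SpecialLinearGroup.toGL) (cast_ne_of h3) Function.surjective_id
      Matrix.SpecialLinearGroup.toGL_injective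
    have h2 : Nat.log 3 3 = 1 := by decide
    rwa [h2] at h
  have hg : Nat.gcd 3 (Fintype.card F - 1) ≠ 0 := fun h => absurd (Nat.gcd_eq_zero_iff.1 h).1 (by norm_num)
  haveI : NeZero (Nat.gcd 3 (Fintype.card F - 1)) := ⟨hg⟩
  have hO : OutAb 3 S := OutAb.congr e (outAb_psl' le_rfl fun h => by
    have h4 : Nat.gcd 3 (Fintype.card F - 1) ∣ 3 := Nat.gcd_dvd_left _ _
    have := Nat.le_of_dvd (by norm_num) (h.trans (Nat.mul_dvd_mul_left 2 h4))
    omega)
  let π : Matrix.SpecialLinearGroup (Fin 3) F →* S := e.symm.toMonoidHom.comp (QuotientGroup.mk' _)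
  have hk : π.ker = Subgroup.center (Matrix.SpecialLinearGroup (Fin 3) F) := by
    ext x
    rw [MonoidHom.mem_ker]
    change e.symm (QuotientGroup.mk' _ x) = 1 ↔ _
    rw [map_eq_one_iff _ e.symm.injective]
    exact QuotientGroup.eq_one_iff x
  have hperf : commutator (Matrix.SpecialLinearGroup (Fin 3) F) = ⊤ := S0248.result 3 le_rfl
  have hπ : PCE π := ⟨e.symm.surjective.comp (QuotientGroup.mk'_surjective _), hk.le, hperf⟩
  have hck : Nat.card π.ker = Nat.gcd 3 (Fintype.card F - 1) := by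
    rw [hk, S0280.card_center_SL (by norm_num)]
  by_cases h24 : Fintype.card F = 2 ∨ Fintype.card F = 4
  · rcases h24 with h24 | h24
    · have hM : HasCyclicSchurMultiplier S 2 :=
        H487.HasSchurMultiplier.congr_left (S2087.result h24) e.symm
      haveI : NeZero 2 := ⟨by norm_num⟩
      haveI : Finite (Multiplicative (ZMod 2)) := inferInstanceAs (Finite (ZMod _))
      refine tame_two (center_simple hna) (covDl_of_cover hM hπ (m := 2) (by norm_num) ?_ h1) hO
      exact (Nat.card_zmod 2).dvd.trans (dvd_mul_left _ _)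
    · have hM : HasSchurMultiplier S (Multiplicative (ZMod 3 × ZMod 4 × ZMod 4)) :=
        H487.HasSchurMultiplier.congr_left (S2088.result h24) e.symm
      haveI : Finite (Multiplicative (ZMod 3 × ZMod 4 × ZMod 4)) := inferInstanceAs (Finite (ZMod 3 × ZMod 4 × ZMod 4))
      refine tame_two (center_simple hna) (covDl_of_cover hM hπ (m := 16) (by norm_num) ?_ h1) hO
      rw [hck, h24]
      simp
  · push Not at h24
    have hM : HasCyclicSchurMultiplier S (Nat.gcd 3 (Fintype.card F - 1)) :=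
      H487.HasSchurMultiplier.congr_left (S2086.result rfl 3 (by norm_num) (by norm_num) (by
        simp only [Set.mem_insert_iff, Set.mem_singleton_iff, Prod.mk.injEq]
        omega)) e.symm
    haveI : Finite (Multiplicative (ZMod (Nat.gcd 3 (Fintype.card F - 1)))) := inferInstanceAs (Finite (ZMod _))
    refine tame_two (center_simple hna) (covDl_of_cover hM hπ (m := 1) (by norm_num) ?_ h1) hO
    rw [hck, mul_one]
    exact (Nat.card_zmod _).dvd

end three

end Cfsg.Agent.H585.BD
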